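import Groth.Agent.L12.LineLift.CobFree
import Groth.Agent.L19.SurjClosed

/-! Lifting invertible modules through a flat adic system. -/

set_option autoImplicit false
set_option linter.style.haveILetI false
set_option linter.unusedSectionVars false
set_option backward.isDefEq.respectTransparency false
set_option backward.isDefEq.respectTransparency.types false

universe u

open CategoryTheory CategoryTheory.Limits AlgebraicGeometry TopologicalSpace Opposite

noncomputable section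

namespace Groth.L12.LineLift

open Groth.L18.Frame (rs ro ro_ro IsFrame exists_frame)
open Groth.L17.BC (act)

/-- An affine cover trivialising an invertible module of a thickened scheme. -/
theorem exists_cover {X' X : Scheme.{u}} (i : X' ⟶ X) [IsClosedImmersion i] [Surjective i]
    (L : X'.Modules) (hL : PicF.IsInvertible L) :
    ∃ N : X → X.Opens, (∀ x, x ∈ N x ∧ IsAffineOpen (N x)) ∧
      ∃ e : ∀ x, Γ(L, i ⁻¹ᵁ N x), ∀ x, IsFrame L (i ⁻¹ᵁ N x) (e x) := by
  have key : ∀ x : X, ∃ N : X.Opens, (x ∈ N ∧ IsAffineOpen N) ∧ ∃ e : Γ(L, i ⁻¹ᵁ N), IsFrame L (i ⁻¹ᵁ N) e := by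
    intro x
    obtain ⟨z, rfl⟩ := i.surjective x
    obtain ⟨O, e, hz, he⟩ := exists_frame hL z
    obtain ⟨T, hT, hO⟩ := i.isClosedEmbedding.isInducing.isOpen_iff.1 O.2
    have hzT : i z ∈ T := by
      have : z ∈ i ⁻¹' T := hO.symm ▸ hz
      exact this
    obtain ⟨N, hN, hxN, hNT⟩ := exists_isAffineOpen_mem_and_subset (x := i z) (U := ⟨T, hT⟩) hzT
    have hle : i ⁻¹ᵁ N ≤ O := fun y hy => by
      have : y ∈ i ⁻¹' T := hNT hy
      rw [hO] at this
      exact this
    exact ⟨N, ⟨hxN, hN⟩, rs L hle e, he.mono hle⟩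
  choose N hN e he using key
  exact ⟨N, hN, e, he⟩

/-- An affine cover trivialising two invertible modules. -/
theorem exists_cover₂ {X : Scheme.{u}} (L L' : X.Modules) (hL : PicF.IsInvertible L) (hL' : PicF.IsInvertible L') :
    ∃ N : X → X.Opens, (∀ x, x ∈ N x ∧ IsAffineOpen (N x)) ∧
      (∃ e : ∀ x, Γ(L, N x), ∀ x, IsFrame L (N x) (e x)) ∧
      ∃ e : ∀ x, Γ(L', N x), ∀ x, IsFrame L' (N x) (e x) := by
  have key : ∀ x : X, ∃ N : X.Opens, (x ∈ N ∧ IsAffineOpen N) ∧ (∃ e : Γ(L, N), IsFrame L N e) ∧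
      ∃ e : Γ(L', N), IsFrame L' N e := by
    intro x
    obtain ⟨O, e, hx, he⟩ := exists_frame hL x
    obtain ⟨O', e', hx', he'⟩ := exists_frame hL' x
    obtain ⟨N, hN, hxN, hNO⟩ := exists_isAffineOpen_mem_and_subset (x := x) (U := O ⊓ O') ⟨hx, hx'⟩
    have h1 : N ≤ O := le_trans hNO inf_le_left
    have h2 : N ≤ O' := le_trans hNO inf_le_right
    exact ⟨N, ⟨hxN, hN⟩, ⟨rs L h1 e, he.mono h1⟩, rs L' h2 e', he'.mono h2⟩
  choose N hN e e' using key
  choose e he using e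
  choose e' he' using e'
  exact ⟨N, hN, ⟨e, he⟩, e', he'⟩

theorem iSup_eq_top_of_mem {X : Scheme.{u}} {N : X → X.Opens} (h : ∀ x, x ∈ N x) : ⨆ x, N x = ⊤ :=
  top_unique fun x _ => Opens.mem_iSup.2 ⟨x, h x⟩

/-- The kernel of base change along a small surjection is free over the closed fibre. -/
theorem exists_small {A B k : Type u} [CommRing A] [IsNoetherianRing A] [CommRing B] [CommRing k]
    [Algebra A B] [Algebra A k] (hsB : Function.Surjective (algebraMap A B))
    (hsk : Function.Surjective (algebraMap A k)) [(RingHom.ker (algebraMap A k)).IsMaximal]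
    (hmJ : RingHom.ker (algebraMap A k) * RingHom.ker (algebraMap A B) = ⊥)
    (hle : RingHom.ker (algebraMap A B) ≤ RingHom.ker (algebraMap A k))
    {X X' X₀ : Scheme.{u}} (f : X ⟶ Spec (CommRingCat.of A)) [Flat f]
    (f' : X' ⟶ Spec (CommRingCat.of B)) (g : X' ⟶ X)
    (sq : IsPullback g f' f (Spec.map (CommRingCat.ofHom (algebraMap A B))))
    (f₀ : X₀ ⟶ Spec (CommRingCat.of k)) (g₀ : X₀ ⟶ X)
    (sq₀ : IsPullback g₀ f₀ f (Spec.map (CommRingCat.ofHom (algebraMap A k)))) :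
    Nonempty (Small g g₀) := by
  obtain ⟨r, v, hv, co, hco, hsp⟩ := Groth.L08.Cube.exists_frame_killed (RingHom.ker (algebraMap A k))
    (RingHom.ker (algebraMap A B)) (IsNoetherian.noetherian _) hmJ
  let ρ := Coh.toGlobal f
  have htop : ∀ {Y : Scheme.{u}} (q : Y ⟶ X) (a : A),
      (∀ (V : X.Opens), IsAffineOpen V → q.app V (act ρ V a) = 0) → q.app ⊤ (ρ a) = 0 := by
    intro Y q a h
    refine Groth.L21.Extend.eq_of_locally (Coh.structureModule Y) _ _ fun y _ => ?_
    obtain ⟨V, hV, hyV, -⟩ := exists_isAffineOpen_mem_and_subset (x := q y) (U := (⊤ : X.Opens)) trivial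
    refine ⟨q ⁻¹ᵁ V, le_top, hyV, ?_⟩
    show ro le_top (q.app ⊤ (ρ a)) = ro le_top (0 : Γ(Y, q ⁻¹ᵁ ⊤))
    refine Eq.trans ?_ (map_zero _).symm
    refine Eq.trans ?_ (h V hV)
    exact (app_ro' q le_top (ρ a)).symm
  exact ⟨{
    r := r
    w := fun l => ρ (v l)
    i_w := fun l => htop g (v l) fun V hV => app_act_eq_zero f f' g sq (hv l) V hV
    g_w := fun l => htop g₀ (v l) fun V hV => app_act_eq_zero f f₀ g₀ sq₀ (hle (hv l)) V hV
    gen := fun V hV a ha => exists_eq_sum_of_app_eq_zero f f' g sq hsB v hsp hV ha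
    uniq := fun V hV s h => app_eq_zero_of_sum_eq_zero f f₀ g₀ sq₀ v hv co hco hV s h
    kill := fun V hV s hs l => by
      obtain ⟨n, u, hu⟩ := Submodule.fg_iff_exists_fin_generating_family.1
        (IsNoetherian.noetherian (RingHom.ker (algebraMap A k)))
      obtain ⟨t, rfl⟩ := exists_eq_sum_of_app_eq_zero f f₀ g₀ sq₀ hsk u hu.ge hV hs
      rw [Finset.mul_sum]
      refine Finset.sum_eq_zero fun j _ => ?_
      have h0 : u j * v l = 0 := by
        have : u j * v l ∈ (⊥ : Ideal A) := hmJ ▸ Ideal.mul_mem_mul (hu.le (Submodule.subset_span ⟨j, rfl⟩)) (hv l)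
        exact Ideal.mem_bot.1 this
      show act ρ V (v l) * (act ρ V (u j) * t j) = 0
      rw [← mul_assoc, ← map_mul, mul_comm (v l), h0, map_zero, zero_mul] }⟩

section System

variable (A : Type u) [CommRing A] [IsLocalRing A] [IsNoetherianRing A]

theorem ker_factor_map {a b : ℕ} (h : a ≤ b) :
    RingHom.ker (Ideal.Quotient.factor (Ideal.pow_le_pow_right (I := (IsLocalRing.maximalIdeal A)) h)) =
      ((IsLocalRing.maximalIdeal A) ^ a).map (Ideal.Quotient.mk ((IsLocalRing.maximalIdeal A) ^ b)) := by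
  exact Ideal.Quotient.factor_ker _

theorem surjective_spec_factor {a b : ℕ} (ha : a ≠ 0) (h : a ≤ b) :
    Surjective (Spec.map (CommRingCat.ofHom (Ideal.Quotient.factor (Ideal.pow_le_pow_right (I := (IsLocalRing.maximalIdeal A)) h)))) := by
  refine ⟨fun x => ?_⟩
  have hs := Ideal.Quotient.factor_surjective (Ideal.pow_le_pow_right (I := (IsLocalRing.maximalIdeal A)) h)
  have : (x : PrimeSpectrum (A ⧸ (IsLocalRing.maximalIdeal A) ^ b)) ∈ Set.range (PrimeSpectrum.comap
      (Ideal.Quotient.factor (Ideal.pow_le_pow_right (I := (IsLocalRing.maximalIdeal A)) h))) := by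
    rw [range_comap_of_surjective _ _ hs, (PrimeSpectrum.zeroLocus_eq_univ_iff _).2]
    · trivial
    · intro y hy
      rw [SetLike.mem_coe, ker_factor_map A h] at hy
      obtain ⟨z, hz, rfl⟩ := (Ideal.mem_map_iff_of_surjective _ Ideal.Quotient.mk_surjective).1 hy
      rw [SetLike.mem_coe, mem_nilradical]
      refine ⟨b, ?_⟩
      rw [← map_pow, Ideal.Quotient.eq_zero_iff_mem]
      exact Ideal.pow_mem_pow (Ideal.pow_le_self ha hz) b
  exact this

variable {A}
variable {Xs : ℕ → Scheme.{u}} {fs : ∀ n : ℕ, Xs n ⟶ Spec (CommRingCat.of (A ⧸ (IsLocalRing.maximalIdeal A) ^ (n + 1)))}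
  {ts : ∀ n : ℕ, Xs n ⟶ Xs (n + 1)}
  (hcart : ∀ n : ℕ, IsPullback (ts n) (fs n) (fs (n + 1))
    (Spec.map (CommRingCat.ofHom (Ideal.Quotient.factor (Ideal.pow_le_pow_right (Nat.le_succ (n + 1)))))))

/-- The composite from the closed fibre. -/
def toLevel (ts : ∀ n : ℕ, Xs n ⟶ Xs (n + 1)) : ∀ n, Xs 0 ⟶ Xs n
  | 0 => 𝟙 _
  | n + 1 => toLevel ts n ≫ ts n

include hcart in
theorem isPullback_toLevel : ∀ n : ℕ, IsPullback (toLevel ts n) (fs 0) (fs n)
    (Spec.map (CommRingCat.ofHom (Ideal.Quotient.factor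
      (Ideal.pow_le_pow_right (I := (IsLocalRing.maximalIdeal A)) (Nat.le_add_left (0 + 1) n)))))
  | 0 => by
    have e : Spec.map (CommRingCat.ofHom (Ideal.Quotient.factor
        (Ideal.pow_le_pow_right (I := (IsLocalRing.maximalIdeal A)) (Nat.le_add_left (0 + 1) 0)))) = 𝟙 _ := by
      rw [← Spec.map_id]; congr 1
      ext x
      rfl
    rw [e]
    haveI : IsIso (toLevel ts 0) := inferInstanceAs (IsIso (𝟙 (Xs 0)))
    exact IsPullback.of_horiz_isIso ⟨by simp [toLevel]⟩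
  | n + 1 => by
    have h := (isPullback_toLevel n).paste_horiz (hcart n)
    rw [← Spec.map_comp, ← CommRingCat.ofHom_comp, Ideal.Quotient.factor_comp] at h
    exact h

include hcart in
theorem level_props (n : ℕ) :
    IsClosedImmersion (ts n) ∧ Surjective (ts n) ∧ IsClosedImmersion (toLevel ts n) ∧ Surjective (toLevel ts n) := by
  have hc : ∀ {a b : ℕ} (h : a ≤ b), IsClosedImmersion
      (Spec.map (CommRingCat.ofHom (Ideal.Quotient.factor (Ideal.pow_le_pow_right (I := (IsLocalRing.maximalIdeal A)) h)))) :=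
    fun h => IsClosedImmersion.spec_of_surjective _ (Ideal.Quotient.factor_surjective (Ideal.pow_le_pow_right h))
  haveI := hc (Nat.le_succ (n + 1))
  haveI := hc (Nat.le_add_left (0 + 1) n)
  haveI := surjective_spec_factor A (Nat.succ_ne_zero n) (Nat.le_succ (n + 1))
  haveI := surjective_spec_factor A (Nat.succ_ne_zero 0) (Nat.le_add_left (0 + 1) n)
  exact ⟨MorphismProperty.of_isPullback (P := @IsClosedImmersion) (hcart n).flip ‹_›,
    MorphismProperty.of_isPullback (P := @Surjective) (hcart n).flip ‹_›,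
    MorphismProperty.of_isPullback (P := @IsClosedImmersion) (isPullback_toLevel hcart n).flip ‹_›,
    MorphismProperty.of_isPullback (P := @Surjective) (isPullback_toLevel hcart n).flip ‹_›⟩

include hcart in
theorem exists_small_level (hflat : ∀ n, Flat (fs n)) (n : ℕ) : Nonempty (Small (ts n) (toLevel ts (n + 1))) := by
  haveI := hflat (n + 1)
  letI : Algebra (A ⧸ (IsLocalRing.maximalIdeal A) ^ (n + 1 + 1)) (A ⧸ (IsLocalRing.maximalIdeal A) ^ (n + 1)) :=
    (Ideal.Quotient.factor (Ideal.pow_le_pow_right (I := (IsLocalRing.maximalIdeal A)) (Nat.le_succ (n + 1)))).toAlgebra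
  letI : Algebra (A ⧸ (IsLocalRing.maximalIdeal A) ^ (n + 1 + 1)) (A ⧸ (IsLocalRing.maximalIdeal A) ^ (0 + 1)) :=
    (Ideal.Quotient.factor (Ideal.pow_le_pow_right (I := (IsLocalRing.maximalIdeal A)) (Nat.le_add_left (0 + 1) (n + 1)))).toAlgebra
  have hB : RingHom.ker (algebraMap (A ⧸ (IsLocalRing.maximalIdeal A) ^ (n + 1 + 1)) (A ⧸ (IsLocalRing.maximalIdeal A) ^ (n + 1))) =
      ((IsLocalRing.maximalIdeal A) ^ (n + 1)).map (Ideal.Quotient.mk ((IsLocalRing.maximalIdeal A) ^ (n + 1 + 1))) := ker_factor_map A (Nat.le_succ _)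
  have hk : RingHom.ker (algebraMap (A ⧸ (IsLocalRing.maximalIdeal A) ^ (n + 1 + 1)) (A ⧸ (IsLocalRing.maximalIdeal A) ^ (0 + 1))) =
      ((IsLocalRing.maximalIdeal A) ^ (0 + 1)).map (Ideal.Quotient.mk ((IsLocalRing.maximalIdeal A) ^ (n + 1 + 1))) := ker_factor_map A (Nat.le_add_left _ _)
  haveI : (RingHom.ker (algebraMap (A ⧸ (IsLocalRing.maximalIdeal A) ^ (n + 1 + 1)) (A ⧸ (IsLocalRing.maximalIdeal A) ^ (0 + 1)))).IsMaximal := by
    rw [hk, zero_add, pow_one]
    refine (Ideal.map_eq_top_or_isMaximal_of_surjective _ Ideal.Quotient.mk_surjective inferInstance).resolve_left fun h => ?_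
    have h1 : (1 : A ⧸ (IsLocalRing.maximalIdeal A) ^ (n + 1 + 1)) ∈ (IsLocalRing.maximalIdeal A).map (Ideal.Quotient.mk ((IsLocalRing.maximalIdeal A) ^ (n + 1 + 1))) := h ▸ Submodule.mem_top
    obtain ⟨z, hz, hz1⟩ := (Ideal.mem_map_iff_of_surjective _ Ideal.Quotient.mk_surjective).1 h1
    rw [← map_one (Ideal.Quotient.mk ((IsLocalRing.maximalIdeal A) ^ (n + 1 + 1))), Ideal.Quotient.eq] at hz1
    exact (IsLocalRing.maximalIdeal.isMaximal A).ne_top ((Ideal.eq_top_iff_one _).2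
      (by simpa using sub_mem hz (Ideal.pow_le_self (Nat.succ_ne_zero _) hz1)))
  refine exists_small (A := A ⧸ (IsLocalRing.maximalIdeal A) ^ (n + 1 + 1)) (B := A ⧸ (IsLocalRing.maximalIdeal A) ^ (n + 1)) (k := A ⧸ (IsLocalRing.maximalIdeal A) ^ (0 + 1))
    (Ideal.Quotient.factor_surjective (Ideal.pow_le_pow_right (Nat.le_succ (n + 1))))
    (Ideal.Quotient.factor_surjective (Ideal.pow_le_pow_right (Nat.le_add_left (0 + 1) (n + 1)))) ?_ ?_
    (fs (n + 1)) (fs n) (ts n) (hcart n) (fs 0) (toLevel ts (n + 1)) (isPullback_toLevel hcart (n + 1))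
  · rw [hk, hB, ← Ideal.map_mul, ← pow_add, Ideal.map_eq_bot_iff_le_ker, Ideal.mk_ker] <;>
      exact Ideal.pow_le_pow_right (by omega)
  · rw [hk, hB]
    exact Ideal.map_mono (Ideal.pow_le_pow_right (by omega))

include hcart in
theorem exists_lift_level (hflat : ∀ n, Flat (fs n)) [(Xs 0).IsSeparated]
    (h2 : Subsingleton (Coh.HH (Xs 0) (Coh.structureModule (Xs 0)) 2)) (n : ℕ) (L : (Xs n).Modules)
    (hL : PicF.IsInvertible L) :
    ∃ L' : (Xs (n + 1)).Modules, PicF.IsInvertible L' ∧ Nonempty ((Scheme.Modules.pullback (ts n)).obj L' ≅ L) := by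
  obtain ⟨h1, h1', -, -⟩ := level_props hcart n
  obtain ⟨-, -, h3, h4⟩ := level_props hcart (n + 1)
  obtain ⟨S⟩ := exists_small_level hcart hflat n
  haveI : (Xs (n + 1)).IsSeparated := by
    have : IsSeparated (toLevel ts (n + 1) ≫ terminal.from (Xs (n + 1))) := by
      rw [terminal.comp_from]; exact Scheme.IsSeparated.isSeparated_terminal_from
    exact ⟨Groth.L19.isSeparated_of_surjective_universallyClosed (toLevel ts (n + 1)) _⟩
  obtain ⟨N, hN, e, he⟩ := exists_cover (ts n) L hL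
  have hNt : ∀ (k : ℕ) (a : Fin (k + 1) → Xs (n + 1)), IsAffineOpen (⨅ j, N (a j)) :=
    fun k a => IsAffineOpen.iInf fun j => (hN _).2
  exact exists_lift S.sqZero (fun a b => aff₂ N hNt a b) (fun x => ⟨x, (hN x).1⟩)
    (S.cob₂ N hNt (iSup_eq_top_of_mem fun x => (hN x).1) h2) L e he

include hcart in
theorem exists_system (hflat : ∀ n, Flat (fs n)) [(Xs 0).IsSeparated]
    (h2 : Subsingleton (Coh.HH (Xs 0) (Coh.structureModule (Xs 0)) 2)) (L₀ : (Xs 0).Modules)
    (hL₀ : PicF.IsInvertible L₀) :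
    ∃ L : ∀ n : ℕ, (Xs n).Modules, (∀ n, PicF.IsInvertible (L n)) ∧ Nonempty (L 0 ≅ L₀) ∧
      ∀ n, Nonempty ((Scheme.Modules.pullback (ts n)).obj (L (n + 1)) ≅ L n) := by
  choose nxt h1 h2' using fun (n : ℕ) (L : {L : (Xs n).Modules // PicF.IsInvertible L}) =>
    exists_lift_level hcart hflat h2 n L.1 L.2
  let Ls : ∀ n, {L : (Xs n).Modules // PicF.IsInvertible L} :=
    fun n => n.rec ⟨L₀, hL₀⟩ fun k L => ⟨nxt k L, h1 k L⟩
  exact ⟨fun n => (Ls n).1, fun n => (Ls n).2, ⟨Iso.refl _⟩, fun n => h2' n (Ls n)⟩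

include hcart in
theorem nonempty_iso_system (hflat : ∀ n, Flat (fs n))
    (h1 : Subsingleton (Coh.HH (Xs 0) (Coh.structureModule (Xs 0)) 1))
    (L L' : ∀ n : ℕ, (Xs n).Modules) (hL : ∀ n, PicF.IsInvertible (L n)) (hL' : ∀ n, PicF.IsInvertible (L' n))
    (hLt : ∀ n, Nonempty ((Scheme.Modules.pullback (ts n)).obj (L (n + 1)) ≅ L n))
    (hL't : ∀ n, Nonempty ((Scheme.Modules.pullback (ts n)).obj (L' (n + 1)) ≅ L' n))
    (e₀ : L 0 ≅ L' 0) : ∀ n, Nonempty (L n ≅ L' n) := by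
  intro n
  induction n with
  | zero => exact ⟨e₀⟩
  | succ n ih =>
    obtain ⟨φ⟩ := ih
    obtain ⟨a⟩ := hLt n
    obtain ⟨b⟩ := hL't n
    obtain ⟨h₁, h₁', -, -⟩ := level_props hcart n
    obtain ⟨-, -, h₃, -⟩ := level_props hcart (n + 1)
    obtain ⟨S⟩ := exists_small_level hcart hflat n
    obtain ⟨N, hN, ⟨e, he⟩, e', he'⟩ := exists_cover₂ (L (n + 1)) (L' (n + 1)) (hL _) (hL' _)
    exact exists_iso S.sqZero (fun x => (hN x).2) (fun x => ⟨x, (hN x).1⟩)
      (S.cob₁ N (fun x => (hN x).2) (iSup_eq_top_of_mem fun x => (hN x).1) h1)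
      _ _ e he e' he' (a ≪≫ φ ≪≫ b.symm)

end System

end Groth.L12.LineLift
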