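import Groth.Agent.L12.LineLift.System
import Groth.Agent.L19.IdealInvertible
import Groth.Agent.L17.KilledUnit
import Groth.Agent.L17.BC.Fibre
import Groth.Agent.L17.AffinePush

/-! First-order thickenings: cocycles of the ideal. -/

set_option autoImplicit false
set_option linter.style.haveILetI false
set_option linter.unusedSectionVars false
set_option backward.isDefEq.respectTransparency false
set_option backward.isDefEq.respectTransparency.types false

universe u

open CategoryTheory CategoryTheory.Limits AlgebraicGeometry TopologicalSpace Opposite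

noncomputable section

namespace Groth.L12.LineLift

open Groth.L18.Frame (rs ro ro_ro rs_rs IsFrame)
open Groth.Agent.L19.IdealInvertible (io io_rs io_smul io_inj)

variable {X : Scheme.{u}} (I : X.IdealSheafData)

theorem app_eq_zero_iff_io (V : X.Opens) (a : Γ(X, V)) :
    I.subschemeι.app V a = 0 ↔ ∃ m, io I V m = a :=
  (Groth.L18.IdealModule.exact_sections I V).2 a

theorem io_rs' {V W : X.Opens} (h : V ≤ W) (m : Γ(ClSub.idealMod I, W)) :
    io I V (rs (ClSub.idealMod I) h m) = ro h (io I W m) := io_rs I h m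

theorem io_add {V : X.Opens} (a b : Γ(ClSub.idealMod I, V)) : io I V (a + b) = io I V a + io I V b :=
  map_add _ a b

theorem io_sub {V : X.Opens} (a b : Γ(ClSub.idealMod I, V)) : io I V (a - b) = io I V a - io I V b :=
  map_sub _ a b

theorem io_zero {V : X.Opens} : io I V 0 = 0 := map_zero _

variable (hI : I ^ 2 = ⊥)

include hI in
theorem sqZero_subschemeι : SqZero I.subschemeι := fun V a b ha hb => by
  refine Groth.L20.ThickAffine.sq_zero_of_local I.subschemeι (fun U x hx => ?_) V a b ha hb
  obtain ⟨W, hW, hxW, hWU⟩ := exists_isAffineOpen_mem_and_subset (x := x) (U := U) hx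
  refine ⟨W, hxW, hWU, fun a b ha hb => ?_⟩
  have ha' : a ∈ I.ideal ⟨W, hW⟩ := by rw [← I.ker_subschemeι_app ⟨W, hW⟩]; exact ha
  have hb' : b ∈ I.ideal ⟨W, hW⟩ := by rw [← I.ker_subschemeι_app ⟨W, hW⟩]; exact hb
  have h : a * b ∈ (I ^ 2).ideal ⟨W, hW⟩ := by
    rw [Scheme.IdealSheafData.ideal_pow, Pi.pow_apply, pow_two]
    exact Ideal.mul_mem_mul ha' hb'
  rw [hI] at h
  simpa using h

include hI in
theorem surjective_subschemeι : Surjective I.subschemeι := by
  refine ⟨fun x => ?_⟩
  obtain ⟨V, hV, hxV, -⟩ := exists_isAffineOpen_mem_and_subset (x := x) (U := (⊤ : X.Opens)) trivial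
  have : x ∈ Set.range I.subschemeι := by
    rw [Scheme.IdealSheafData.range_subschemeι]
    refine (Scheme.IdealSheafData.mem_support_iff_of_mem (U := ⟨V, hV⟩) hxV).2 ?_
    rw [Scheme.mem_zeroLocus_iff]
    intro f hf hmem
    have h2 : f * f ∈ (I ^ 2).ideal ⟨V, hV⟩ := by
      rw [Scheme.IdealSheafData.ideal_pow, Pi.pow_apply, pow_two]
      exact Ideal.mul_mem_mul hf hf
    rw [hI] at h2
    have hz : f * f = 0 := by simpa using h2
    have : x ∈ X.basicOpen (f * f) := by rw [Scheme.basicOpen_mul]; exact ⟨hmem, hmem⟩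
    rw [hz, Scheme.basicOpen_zero] at this
    exact this
  exact this

include hI in
theorem killed_idealMod : ClSub.KilledByIdeal I.subschemeι.ker (ClSub.idealMod I) := fun U a ha m => by
  apply io_inj I U.1
  show io I U.1 (a • (show Γ(ClSub.idealMod I, U.1) from m)) = io I U.1 0
  rw [io_smul, io_zero]
  rw [I.ker_subschemeι] at ha
  refine sqZero_subschemeι I hI U.1 _ _ ?_ ((app_eq_zero_iff_io I U.1 _).2 ⟨_, rfl⟩)
  exact RingHom.mem_ker.1 (by rw [I.ker_subschemeι_app U]; exact ha)

include hI in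
theorem subsingleton_HH_idealMod (n : ℕ)
    (h : Subsingleton (Coh.HH I.subscheme ((Scheme.Modules.pullback I.subschemeι).obj (ClSub.idealMod I)) n)) :
    Subsingleton (Coh.HH X (ClSub.idealMod I) n) := by
  haveI := Groth.L17.KilledUnit.isIso_of_killed I.subschemeι (ClSub.idealMod I) (killed_idealMod I hI)
  obtain ⟨e⟩ := Groth.L17.nonempty_HH_push_of_isClosedImmersion I.subschemeι
    ((Scheme.Modules.pullback I.subschemeι).obj (ClSub.idealMod I)) n
  exact ((Groth.L17.BC.HHequiv (asIso ((Scheme.Modules.pullbackPushforwardAdjunction I.subschemeι).unit.app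
    (ClSub.idealMod I))) n).toAddEquiv.trans e.symm).toEquiv.subsingleton

variable {ι : Type u} (N : ι → X.Opens) (hcov : ⨆ a, N a = ⊤)

include hcov in
theorem cob₂_subschemeι (hN : ∀ (n : ℕ) (a : Fin (n + 1) → ι), IsAffineOpen (⨅ k, N (a k)))
    (h2 : Subsingleton (Coh.HH X (ClSub.idealMod I) 2)) : Cob₂ I.subschemeι N := by
  intro c hc hcoc
  choose m hm using fun a b d => (app_eq_zero_iff_io I _ (c a b d)).1 (hc a b d)
  obtain ⟨β, hβ⟩ := exists_coboundary₂ N (ClSub.idealMod I) hN hcov h2 m fun a b d e W ha hb hd he => by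
    apply io_inj I W
    rw [io_sub, io_add, io_sub, io_rs', io_rs', io_rs', io_rs', hm, hm, hm, hm, io_zero]
    exact hcoc a b d e W ha hb hd he
  refine ⟨fun a b => io I _ (β a b), fun a b => (app_eq_zero_iff_io I _ _).2 ⟨_, rfl⟩,
    fun a b d W ha hb hd => ?_⟩
  have h := congrArg (io I W) (hβ a b d W ha hb hd)
  rw [io_add, io_sub, io_rs', io_rs', io_rs', io_rs', hm] at h
  exact h

include hcov in
theorem cob₁_subschemeι (h1 : Subsingleton (Coh.HH X (ClSub.idealMod I) 1)) : Cob₁ I.subschemeι N := by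
  intro c hc hcoc
  choose m hm using fun a b => (app_eq_zero_iff_io I _ (c a b)).1 (hc a b)
  obtain ⟨β, hβ⟩ := exists_coboundary₁ N (ClSub.idealMod I) hcov h1 m fun a b d W ha hb hd => by
    apply io_inj I W
    rw [io_add, io_sub, io_rs', io_rs', io_rs', hm, hm, hm, io_zero]
    exact hcoc a b d W ha hb hd
  refine ⟨fun a => io I _ (β a), fun a => (app_eq_zero_iff_io I _ _).2 ⟨_, rfl⟩, fun a b W ha hb => ?_⟩
  have h := congrArg (io I W) (hβ a b W ha hb)
  rw [io_sub, io_rs', io_rs', io_rs', hm] at h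
  exact h

end Groth.L12.LineLift
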