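import Groth.Agent.L17.CechComparison
import Groth.Agent.L10.CechSheaf
import Groth.Agent.L10.CechBasic
import Groth.Agent.L18.Frame
import Groth.Prelude.Def_Coh

/-! Čech cocycles of quasi-coherent modules in degrees one and two, elementwise. -/

set_option autoImplicit false
set_option linter.style.haveILetI false
set_option backward.isDefEq.respectTransparency false
set_option backward.isDefEq.respectTransparency.types false

universe u

open CategoryTheory CategoryTheory.Limits AlgebraicGeometry TopologicalSpace Opposite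

noncomputable section

namespace Groth.L12.LineLift

open Groth.L18.Frame (rs rs_rs)

variable {X : Scheme.{u}} {ι : Type u} (U : ι → X.Opens) (M : X.Modules) [Coh.IsQCoh M]

theorem exists_d_eq (hU : ∀ (n : ℕ) (a : Fin (n + 1) → ι), IsAffineOpen (⨅ k, U (a k))) (hcov : ⨆ i, U i = ⊤) (p : ℕ)
    (h : Subsingleton (Coh.HH X M (p + 1)))
    (x : (Groth.L10.Cech.cx (𝟭 _) U M.presheaf).X (p + 1))
    (hx : (Groth.L10.Cech.cx (𝟭 _) U M.presheaf).d (p + 1) (p + 2) x = 0) :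
    ∃ y, (Groth.L10.Cech.cx (𝟭 _) U M.presheaf).d p (p + 1) y = x := by
  obtain ⟨e⟩ := Groth.L17.nonempty_cechH_equiv U M hU (p + 1)
  have hU' : Subsingleton (Groth.L17.HU (X := X.toTopCat) (⨆ i, U i) (Coh.toAb M) (p + 1)) := by
    rw [hcov]
    exact (Groth.L17.hTopEquiv (X := X.toTopCat) (Coh.toAb M) (p + 1)).symm.subsingleton
  have h0 : Subsingleton ((Groth.L10.Cech.cx (𝟭 _) U M.presheaf).homology (p + 1)) := e.subsingleton
  have hz : IsZero ((Groth.L10.Cech.cx (𝟭 _) U M.presheaf).homology (p + 1)) :=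
    AddCommGrpCat.isZero_of_subsingleton _
  rw [← HomologicalComplex.exactAt_iff_isZero_homology,
    HomologicalComplex.exactAt_iff' _ p (p + 1) (p + 2) (by simp) (by simp), ShortComplex.ab_exact_iff] at hz
  exact hz x hx

theorem map_eq_rs {V W : X.Opens} (f : W ⟶ V) (s : Γ(M, V)) : M.presheaf.map f.op s = rs M (leOfHom f) s := rfl

theorem tup_le {n : ℕ} (a : Fin (n + 1) → ι) (k : Fin (n + 1)) : Groth.L10.Cech.tup U a ≤ U (a k) :=
  (Pi.π (U ∘ a) k).le

theorem le_tup {n : ℕ} (a : Fin (n + 1) → ι) {W : X.Opens} (h : ∀ k, W ≤ U (a k)) : W ≤ Groth.L10.Cech.tup U a :=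
  (Pi.lift fun k => homOfLE (h k)).le

omit [Coh.IsQCoh M] in
/-- The differential, restricted to an open inside all the members of a tuple. -/
theorem rs_co_d {n : ℕ} (y : (Groth.L10.Cech.cx (𝟭 _) U M.presheaf).X n) (a : Fin (n + 2) → ι) {W : X.Opens}
    (h : ∀ k, W ≤ U (a k)) :
    rs M (le_tup U a h) (Groth.L10.Cech.co a ((Groth.L10.Cech.cx (𝟭 _) U M.presheaf).d n (n + 1) y)) =
      ∑ j : Fin (n + 2), (-1 : ℤ) ^ (j : ℕ) •
        rs M (le_tup U (a ∘ j.succAbove) fun k => h _) (Groth.L10.Cech.co (a ∘ j.succAbove) y) := by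
  rw [Groth.L10.Cech.co_d]
  refine (map_sum (M.presheaf.map (homOfLE (le_tup U a h)).op).hom _ _).trans ?_
  refine Finset.sum_congr rfl fun j _ => ?_
  rw [map_zsmul]
  congr 1
  exact rs_rs M _ _ _

omit [Coh.IsQCoh M] in
theorem rs_congr (g : ∀ a : Fin 2 → ι, Γ(M, Groth.L10.Cech.tup U a)) {W : X.Opens} {a b : Fin 2 → ι} (h : a = b)
    (ha : W ≤ Groth.L10.Cech.tup U a) (hb : W ≤ Groth.L10.Cech.tup U b) : rs M ha (g a) = rs M hb (g b) := by
  subst h; rfl

/-- Two-cocycles are coboundaries when `H²` vanishes. -/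
theorem exists_coboundary₂ (hU : ∀ (n : ℕ) (a : Fin (n + 1) → ι), IsAffineOpen (⨅ k, U (a k)))
    (hcov : ⨆ i, U i = ⊤) (h : Subsingleton (Coh.HH X M 2))
    (c : ∀ a b d, Γ(M, U a ⊓ U b ⊓ U d))
    (hc : ∀ a b d e (W : X.Opens) (ha : W ≤ U a) (hb : W ≤ U b) (hd : W ≤ U d) (he : W ≤ U e),
      rs M (le_inf (le_inf hb hd) he) (c b d e) - rs M (le_inf (le_inf ha hd) he) (c a d e) +
        rs M (le_inf (le_inf ha hb) he) (c a b e) - rs M (le_inf (le_inf ha hb) hd) (c a b d) = 0) :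
    ∃ β : ∀ a b, Γ(M, U a ⊓ U b), ∀ a b d (W : X.Opens) (ha : W ≤ U a) (hb : W ≤ U b) (hd : W ≤ U d),
      rs M (le_inf (le_inf ha hb) hd) (c a b d) =
        rs M (le_inf hb hd) (β b d) - rs M (le_inf ha hd) (β a d) + rs M (le_inf ha hb) (β a b) := by
  let x : (Groth.L10.Cech.cx (𝟭 _) U M.presheaf).X (1 + 1) := Groth.L10.Cech.mk fun t : Fin 3 → ι =>
    rs M (le_inf (le_inf (tup_le U t 0) (tup_le U t 1)) (tup_le U t 2)) (c (t 0) (t 1) (t 2))
  have hx : (Groth.L10.Cech.cx (𝟭 _) U M.presheaf).d (1 + 1) (1 + 2) x = 0 := by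
    refine Groth.L10.Cech.co_ext fun t => ?_
    have hW : ∀ k, Groth.L10.Cech.tup U t ≤ U (t k) := tup_le U t
    have h1 := rs_co_d U M (n := 2) x t hW
    rw [Groth.L18.Frame.rs_self] at h1
    rw [map_zero]
    refine h1.trans ?_
    simp only [x, Groth.L10.Cech.co_mk, rs_rs]
    erw [Fin.sum_univ_four]
    refine Eq.trans ?_ (hc (t 0) (t 1) (t 2) (t 3) _ (hW 0) (hW 1) (hW 2) (hW 3))
    simp [Fin.succAbove, sub_eq_add_neg]
  obtain ⟨y, hy⟩ := exists_d_eq U M hU hcov 1 h x hx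
  refine ⟨fun a b => rs M (le_tup U ![a, b] (Fin.forall_fin_two.2 ⟨(inf_le_left : U a ⊓ U b ≤ U a), (inf_le_right : U a ⊓ U b ≤ U b)⟩))
    (Groth.L10.Cech.co ![a, b] y), fun a b d W ha hb hd => ?_⟩
  have hW : ∀ k, W ≤ U (![a, b, d] k) := fun k => by fin_cases k <;> assumption
  have h1 := rs_co_d U M (n := 1) y ![a, b, d] hW
  rw [show (Groth.L10.Cech.cx (𝟭 _) U M.presheaf).d 1 (1 + 1) y = x from hy] at h1
  simp only [x, Groth.L10.Cech.co_mk, rs_rs] at h1
  erw [Fin.sum_univ_three] at h1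
  refine Eq.trans h1 ?_
  simp only [rs_rs]
  have e0 : (![a, b, d] : Fin 3 → ι) ∘ Fin.succAbove 0 = ![b, d] := by funext k; fin_cases k <;> rfl
  have e1 : (![a, b, d] : Fin 3 → ι) ∘ Fin.succAbove 1 = ![a, d] := by funext k; fin_cases k <;> rfl
  have e2 : (![a, b, d] : Fin 3 → ι) ∘ Fin.succAbove 2 = ![a, b] := by funext k; fin_cases k <;> rfl
  rw [rs_congr U M (fun s => Groth.L10.Cech.co s y) e0 _ (le_tup U _ (Fin.forall_fin_two.2 ⟨hb, hd⟩)),
    rs_congr U M (fun s => Groth.L10.Cech.co s y) e1 _ (le_tup U _ (Fin.forall_fin_two.2 ⟨ha, hd⟩)),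
    rs_congr U M (fun s => Groth.L10.Cech.co s y) e2 _ (le_tup U _ (Fin.forall_fin_two.2 ⟨ha, hb⟩))]
  simp [sub_eq_add_neg]

omit [Coh.IsQCoh M] in
theorem rs_congr₀ (g : ∀ a : Fin 1 → ι, Γ(M, Groth.L10.Cech.tup U a)) {W : X.Opens} {a b : Fin 1 → ι} (h : a = b)
    (ha : W ≤ Groth.L10.Cech.tup U a) (hb : W ≤ Groth.L10.Cech.tup U b) : rs M ha (g a) = rs M hb (g b) := by
  subst h; rfl

omit [Coh.IsQCoh M] in
open Groth.L10 Groth.L10.SiteCoh in
/-- In degree one no acyclicity of the intersections is needed. -/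
theorem exists_d_eq₁ (hcov : ⨆ i, U i = ⊤) (h : Subsingleton (Coh.HH X M 1))
    (x : (Groth.L10.Cech.cx (𝟭 _) U M.presheaf).X (0 + 1))
    (hx : (Groth.L10.Cech.cx (𝟭 _) U M.presheaf).d (0 + 1) (0 + 2) x = 0) :
    ∃ y, (Groth.L10.Cech.cx (𝟭 _) U M.presheaf).d 0 (0 + 1) y = x := by
  have hS := hull_shortExact (Coh.toAb M)
  have hU' : Subsingleton (Groth.L17.HU (X := X.toTopCat) (⨆ i, U i) (Coh.toAb M) 1) := by
    rw [hcov]
    exact @Equiv.subsingleton _ _ (Groth.L17.hTopEquiv (X := X.toTopCat) (Coh.toAb M) 1).symm.toEquiv h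
  haveI : Subsingleton (Abelian.Ext (fs (Opens.grothendieckTopology X) (⨆ i, U i)) (hull (Coh.toAb M)).X₁ 1) := hU'
  haveI := Cech.injective_obj (hull (Coh.toAb M)).X₂
  have h2 : (Groth.L10.Cech.cx (𝟭 _) U (hull (Coh.toAb M)).X₂.obj).ExactAt 1 :=
    Cech.exactAt_of_injective (P := (hull (Coh.toAb M)).X₂.obj) (Cech.isNerve_opens (X := X.toTopCat) U) 0
  have hz := Cech.exactAt_one_of_surjective (Cech.isNerve_opens (X := X.toTopCat) U)
    (Cech.cover_opens (X := X.toTopCat) U) hS h2 (surjective_sections_of_subsingleton hS _)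
  rw [HomologicalComplex.exactAt_iff' _ 0 1 2 (by simp) (by simp), ShortComplex.ab_exact_iff] at hz
  exact hz x hx

omit [Coh.IsQCoh M] in
/-- One-cocycles are coboundaries when `H¹` vanishes. -/
theorem exists_coboundary₁ (hcov : ⨆ i, U i = ⊤) (h : Subsingleton (Coh.HH X M 1))
    (c : ∀ a b, Γ(M, U a ⊓ U b))
    (hc : ∀ a b d (W : X.Opens) (ha : W ≤ U a) (hb : W ≤ U b) (hd : W ≤ U d),
      rs M (le_inf hb hd) (c b d) - rs M (le_inf ha hd) (c a d) + rs M (le_inf ha hb) (c a b) = 0) :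
    ∃ β : ∀ a, Γ(M, U a), ∀ a b (W : X.Opens) (ha : W ≤ U a) (hb : W ≤ U b),
      rs M (le_inf ha hb) (c a b) = rs M hb (β b) - rs M ha (β a) := by
  let x : (Groth.L10.Cech.cx (𝟭 _) U M.presheaf).X (0 + 1) := Groth.L10.Cech.mk fun t : Fin 2 → ι =>
    rs M (le_inf (tup_le U t 0) (tup_le U t 1)) (c (t 0) (t 1))
  have hx : (Groth.L10.Cech.cx (𝟭 _) U M.presheaf).d (0 + 1) (0 + 2) x = 0 := by
    refine Groth.L10.Cech.co_ext fun t => ?_
    have hW : ∀ k, Groth.L10.Cech.tup U t ≤ U (t k) := tup_le U t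
    have h1 := rs_co_d U M (n := 1) x t hW
    rw [Groth.L18.Frame.rs_self] at h1
    rw [map_zero]
    refine h1.trans ?_
    simp only [x, Groth.L10.Cech.co_mk, rs_rs]
    erw [Fin.sum_univ_three]
    refine Eq.trans ?_ (hc (t 0) (t 1) (t 2) _ (hW 0) (hW 1) (hW 2))
    simp [Fin.succAbove, sub_eq_add_neg]
  obtain ⟨y, hy⟩ := exists_d_eq₁ U M hcov h x hx
  refine ⟨fun a => rs M (le_tup U ![a] (Fin.forall_fin_one.2 (le_refl (U a))))
    (Groth.L10.Cech.co ![a] y), fun a b W ha hb => ?_⟩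
  have hW : ∀ k, W ≤ U (![a, b] k) := fun k => by fin_cases k <;> assumption
  have h1 := rs_co_d U M (n := 0) y ![a, b] hW
  rw [show (Groth.L10.Cech.cx (𝟭 _) U M.presheaf).d 0 (0 + 1) y = x from hy] at h1
  simp only [x, Groth.L10.Cech.co_mk, rs_rs] at h1
  erw [Fin.sum_univ_two] at h1
  refine Eq.trans h1 ?_
  simp only [rs_rs]
  have e0 : (![a, b] : Fin 2 → ι) ∘ Fin.succAbove 0 = ![b] := by funext k; fin_cases k; rfl
  have e1 : (![a, b] : Fin 2 → ι) ∘ Fin.succAbove 1 = ![a] := by funext k; fin_cases k; rfl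
  rw [rs_congr₀ U M (fun s => Groth.L10.Cech.co s y) e0 _ (le_tup U _ (Fin.forall_fin_one.2 hb)),
    rs_congr₀ U M (fun s => Groth.L10.Cech.co s y) e1 _ (le_tup U _ (Fin.forall_fin_one.2 ha))]
  simp [sub_eq_add_neg]

end Groth.L12.LineLift
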