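import Groth.Agent.L17.BC.Change
import Groth.Agent.L08.Cube.LocalTriv
import Groth.Agent.L08.Cube.Deform

/-! Sections killed by the base change along a small surjection of rings. -/

set_option autoImplicit false
set_option linter.style.haveILetI false
set_option linter.unusedSectionVars false
set_option backward.isDefEq.respectTransparency false

universe u

open CategoryTheory CategoryTheory.Limits AlgebraicGeometry TopologicalSpace Opposite
open scoped TensorProduct

noncomputable section

namespace Groth.L12.LineLift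

open Groth.L17.BC (act Sec isPushout_sections)

/-- Elements killed by tensoring with a quotient ring. -/
theorem mem_smul_top_of_one_tmul_eq_zero {A B M : Type u} [CommRing A] [CommRing B] [Algebra A B]
    [AddCommGroup M] [Module A M] (hs : Function.Surjective (algebraMap A B)) {s : M}
    (h : (1 : B) ⊗ₜ[A] s = 0) : s ∈ RingHom.ker (algebraMap A B) • (⊤ : Submodule A M) := by
  let K : Submodule A A := RingHom.ker (algebraMap A B)
  have hex : Function.Exact K.subtype (Algebra.linearMap A B) := fun r => by
    constructor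
    · exact fun h => ⟨⟨r, h⟩, rfl⟩
    · rintro ⟨k, rfl⟩; exact k.2
  have h0 : (Algebra.linearMap A B).rTensor M ((1 : A) ⊗ₜ[A] s) = 0 := by
    rw [LinearMap.rTensor_tmul, Algebra.linearMap_apply, map_one]
    exact h
  obtain ⟨w, hw⟩ := (rTensor_exact M hex hs _).1 h0
  have hz : ∀ w : K ⊗[A] M, TensorProduct.lid A M (K.subtype.rTensor M w) ∈
      RingHom.ker (algebraMap A B) • (⊤ : Submodule A M) := fun w => by
    induction w using TensorProduct.induction_on with
    | zero => simp
    | tmul k m =>
      rw [LinearMap.rTensor_tmul, TensorProduct.lid_tmul]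
      exact Submodule.smul_mem_smul k.2 trivial
    | add a b ha hb => simp only [map_add]; exact Submodule.add_mem _ ha hb
  have := hz w
  rwa [hw, TensorProduct.lid_tmul, one_smul] at this

section

variable {A B : Type u} [CommRing A] [CommRing B] [Algebra A B] {X X' : Scheme.{u}}
  (f : X ⟶ Spec (CommRingCat.of A)) (f' : X' ⟶ Spec (CommRingCat.of B)) (g : X' ⟶ X)
  (sq : IsPullback g f' f (Spec.map (CommRingCat.ofHom (algebraMap A B))))

include sq in
/-- Base ring elements killed by `algebraMap` die on the base change. -/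
theorem app_act_eq_zero {a : A} (ha : algebraMap A B a = 0) (V : X.Opens) (hV : IsAffineOpen V) :
    g.app V (act (Coh.toGlobal f) V a) = 0 := by
  have h := ConcreteCategory.congr_hom (isPushout_sections f f' g sq hV).w a
  refine h.trans ?_
  show act (Coh.toGlobal f') (g ⁻¹ᵁ V) (algebraMap A B a) = 0
  rw [ha, map_zero]

include sq in
/-- Sections vanishing on the base change are combinations of generators of the kernel. -/
theorem exists_eq_sum_of_app_eq_zero (hs : Function.Surjective (algebraMap A B)) {r : ℕ} (v : Fin r → A)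
    (hsp : RingHom.ker (algebraMap A B) ≤ Ideal.span (Set.range v)) {V : X.Opens} (hV : IsAffineOpen V)
    {a : Γ(X, V)} (ha : g.app V a = 0) :
    ∃ s : Fin r → Γ(X, V), a = ∑ l, act (Coh.toGlobal f) V (v l) * s l := by
  let W := g ⁻¹ᵁ V
  letI : Algebra A Γ(X, V) := (act (Coh.toGlobal f) V).toAlgebra
  letI : Algebra B Γ(X', W) := (act (Coh.toGlobal f') W).toAlgebra
  letI : Algebra Γ(X, V) Γ(X', W) := (g.app V).hom.toAlgebra
  letI : Algebra A Γ(X', W) := ((act (Coh.toGlobal f') W).comp (algebraMap A B)).toAlgebra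
  haveI : IsScalarTower A B Γ(X', W) := IsScalarTower.of_algebraMap_eq fun _ => rfl
  have hpo := isPushout_sections f f' g sq hV
  haveI : IsScalarTower A Γ(X, V) Γ(X', W) := IsScalarTower.of_algebraMap_eq fun a => by
    show act (Coh.toGlobal f') W (algebraMap A B a) = g.app V (act (Coh.toGlobal f) V a)
    exact (ConcreteCategory.congr_hom hpo.w a).symm
  haveI : Algebra.IsPushout A B Γ(X, V) Γ(X', W) := CommRingCat.isPushout_iff_isPushout.1 hpo.flip
  have h1 : (1 : B) ⊗ₜ[A] a = 0 := by
    apply (Algebra.IsPushout.out (R := A) (S := B) (R' := Γ(X, V)) (S' := Γ(X', W))).equiv.injective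
    rw [IsBaseChange.equiv_tmul, map_zero, one_smul]
    exact ha
  obtain ⟨s, hs⟩ := Groth.L08.Cube.exists_coeff_killed _ v hsp a (mem_smul_top_of_one_tmul_eq_zero hs h1)
  exact ⟨s, hs.trans (Finset.sum_congr rfl fun l _ => Algebra.smul_def (v l) (s l))⟩

end

section Flat

variable {A k : Type u} [CommRing A] [CommRing k] [Algebra A k] {X X₀ : Scheme.{u}}
  (f : X ⟶ Spec (CommRingCat.of A)) (f₀ : X₀ ⟶ Spec (CommRingCat.of k)) (g₀ : X₀ ⟶ X)
  (sq₀ : IsPullback g₀ f₀ f (Spec.map (CommRingCat.ofHom (algebraMap A k))))

include sq₀ in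
/-- Coefficients along a minimal system of generators are unique on the closed fibre. -/
theorem app_eq_zero_of_sum_eq_zero [Flat f] {J : Ideal A} {r : ℕ} (v : Fin r → A) (hv : ∀ l, v l ∈ J)
    (co : Fin r → (J →ₗ[A] A ⧸ RingHom.ker (algebraMap A k)))
    (hco : ∀ i j, co i ⟨v j, hv j⟩ = if i = j then 1 else 0) {V : X.Opens} (hV : IsAffineOpen V)
    (s : Fin r → Γ(X, V)) (h : ∑ l, act (Coh.toGlobal f) V (v l) * s l = 0) (l : Fin r) :
    g₀.app V (s l) = 0 := by
  haveI := Groth.L08.Cube.flat_sections f (Groth.L18.Ample.isInvertible_structureModule X) V hV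
  let s' : Fin r → Sec (Coh.toGlobal f) (Coh.structureModule X) V := s
  have hmem := Groth.L08.Cube.coeff_mem (RingHom.ker (algebraMap A k)) v hv co hco s'
    (by
      rw [show (∑ j, v j • s' j) = 0 from h]
      exact Submodule.zero_mem _) l
  refine Submodule.smul_induction_on hmem (p := fun t : Sec (Coh.toGlobal f) (Coh.structureModule X) V => g₀.app V (show Γ(X, V) from t) = 0)
    (fun a ha t _ => ?_) (fun p q hp hq => ?_)
  · show g₀.app V (act (Coh.toGlobal f) V a * (show Γ(X, V) from t)) = 0
    rw [map_mul, app_act_eq_zero f f₀ g₀ sq₀ ha V hV, zero_mul]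
  · show g₀.app V ((show Γ(X, V) from p) + (show Γ(X, V) from q)) = 0
    rw [map_add, hp, hq, add_zero]

end Flat

end Groth.L12.LineLift
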