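import Groth.Agent.L22.PicGlue.GensIso
import Groth.Agent.L22.PicGlue.Cocycle
import Groth.Agent.L20.PicThick

/-! Lifting invertible modules along square-zero thickenings, in terms of Čech cocycles of the kernel. -/

set_option autoImplicit false
set_option linter.style.haveILetI false
set_option backward.isDefEq.respectTransparency.types false
set_option backward.isDefEq.respectTransparency false

universe u

open CategoryTheory AlgebraicGeometry TopologicalSpace Opposite

noncomputable section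

namespace Groth.L12.LineLift

open Groth.L18.Frame (rs ro rs_rs ro_ro rs_smul ro_self rs_self IsFrame pull pull_smul pull_rs ro_mul)
open Groth.L22.PicGlue

variable {X₀ X : Scheme.{u}} (i : X₀ ⟶ X) {ι : Type u} (N : ι → X.Opens)

/-- The kernel of `i` is square-zero. -/
def SqZero : Prop := ∀ (V : X.Opens) (a b : Γ(X, V)), i.app V a = 0 → i.app V b = 0 → a * b = 0

/-- Čech two-cocycles of the kernel of `i` on the cover are coboundaries. -/
def Cob₂ : Prop :=
  ∀ c : ∀ a b d, Γ(X, N a ⊓ N b ⊓ N d), (∀ a b d, i.app _ (c a b d) = 0) →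
    (∀ a b d e (W : X.Opens) (ha : W ≤ N a) (hb : W ≤ N b) (hd : W ≤ N d) (he : W ≤ N e),
      ro (le_inf (le_inf hb hd) he) (c b d e) - ro (le_inf (le_inf ha hd) he) (c a d e) +
        ro (le_inf (le_inf ha hb) he) (c a b e) - ro (le_inf (le_inf ha hb) hd) (c a b d) = 0) →
    ∃ β : ∀ a b, Γ(X, N a ⊓ N b), (∀ a b, i.app _ (β a b) = 0) ∧
      ∀ a b d (W : X.Opens) (ha : W ≤ N a) (hb : W ≤ N b) (hd : W ≤ N d),
        ro (le_inf (le_inf ha hb) hd) (c a b d) =
          ro (le_inf hb hd) (β b d) - ro (le_inf ha hd) (β a d) + ro (le_inf ha hb) (β a b)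

/-- Čech one-cocycles of the kernel of `i` on the cover are coboundaries. -/
def Cob₁ : Prop :=
  ∀ c : ∀ a b, Γ(X, N a ⊓ N b), (∀ a b, i.app _ (c a b) = 0) →
    (∀ a b d (W : X.Opens) (ha : W ≤ N a) (hb : W ≤ N b) (hd : W ≤ N d),
      ro (le_inf hb hd) (c b d) - ro (le_inf ha hd) (c a d) + ro (le_inf ha hb) (c a b) = 0) →
    ∃ β : ∀ a, Γ(X, N a), (∀ a, i.app _ (β a) = 0) ∧
      ∀ a b (W : X.Opens) (ha : W ≤ N a) (hb : W ≤ N b),
        ro (le_inf ha hb) (c a b) = ro hb (β b) - ro ha (β a)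

variable {i N}

theorem app_ro {U V : X.Opens} (h : V ≤ U) (a : Γ(X, U)) :
    i.app V (ro h a) = ro (i.preimage_mono h) (i.app U a) :=
  congr($(i.naturality (homOfLE h).op) a)

theorem app_ro_eq_zero {U V : X.Opens} (h : V ≤ U) {a : Γ(X, U)} (ha : i.app U a = 0) :
    i.app V (ro h a) = 0 := by
  rw [app_ro, ha]; exact map_zero _

theorem exists_unit_lift [IsClosedImmersion i] (hsq : SqZero i) {V : X.Opens} (hV : IsAffineOpen V)
    {u : Γ(X₀, i ⁻¹ᵁ V)} (hu : IsUnit u) : ∃ t s : Γ(X, V), t * s = 1 ∧ i.app V t = u := by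
  obtain ⟨v, hv⟩ := hu.exists_right_inv
  obtain ⟨t, rfl⟩ := i.app_surjective V hV u
  obtain ⟨s, rfl⟩ := i.app_surjective V hV v
  have h := hsq V (t * s - 1) (t * s - 1) (by rw [map_sub, map_mul, hv, map_one, sub_self])
    (by rw [map_sub, map_mul, hv, map_one, sub_self])
  exact ⟨t, s * (2 - t * s), by linear_combination (-1 : Γ(X, V)) * h, rfl⟩

variable [IsClosedImmersion i] (hsq : SqZero i) (hN : ∀ a b, IsAffineOpen (N a ⊓ N b))
  (hcov : ∀ x : X, ∃ a, x ∈ N a)

include hsq hN hcov in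
/-- The obstruction to lifting an invertible module. -/
theorem exists_lift (hcob : Cob₂ i N) (L : X₀.Modules) (e : ∀ a, Γ(L, i ⁻¹ᵁ N a))
    (he : ∀ a, IsFrame L (i ⁻¹ᵁ N a) (e a)) :
    ∃ L' : X.Modules, PicF.IsInvertible L' ∧ Nonempty ((Scheme.Modules.pullback i).obj L' ≅ L) := by
  choose u hu using fun p : ι × ι => (he p.1).exists_coeff
    (i.preimage_mono (inf_le_left : N p.1 ⊓ N p.2 ≤ N p.1))
    (rs L (i.preimage_mono (inf_le_right : N p.1 ⊓ N p.2 ≤ N p.2)) (e p.2))
  have huu : ∀ p, IsUnit (u p) := fun p =>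
    Groth.L18.Frame.isUnit_of_isFrame ((he p.1).mono _) (by rw [hu]; exact (he p.2).mono _)
  choose g v hgv hg using fun p : ι × ι => exists_unit_lift hsq (hN p.1 p.2) (huu p)
  have hgab : ∀ a b, i.app (N a ⊓ N b) (g (a, b)) = u (a, b) := fun a b => hg (a, b)
  have hutr : ∀ a b d (W : X.Opens) (ha : W ≤ N a) (hb : W ≤ N b) (hd : W ≤ N d),
      ro (i.preimage_mono (le_inf ha hb)) (u (a, b)) * ro (i.preimage_mono (le_inf hb hd)) (u (b, d)) =
        ro (i.preimage_mono (le_inf ha hd)) (u (a, d)) := fun a b d W ha hb hd => by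
    refine (he a).inj (i.preimage_mono ha) ?_
    have e1 := congrArg (rs L (i.preimage_mono (le_inf ha hb))) (hu (a, b))
    have e2 := congrArg (rs L (i.preimage_mono (le_inf hb hd))) (hu (b, d))
    have e3 := congrArg (rs L (i.preimage_mono (le_inf ha hd))) (hu (a, d))
    simp only [rs_smul, rs_rs] at e1 e2 e3
    rw [mul_comm, mul_smul, e1, e2, e3]
  -- the obstruction cocycle
  let c : ∀ a b d, Γ(X, N a ⊓ N b ⊓ N d) := fun a b d =>
    ro (inf_le_left : N a ⊓ N b ⊓ N d ≤ N a ⊓ N b) (g (a, b)) *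
      ro (le_inf (inf_le_left.trans inf_le_right) inf_le_right : N a ⊓ N b ⊓ N d ≤ N b ⊓ N d) (g (b, d)) *
      ro (le_inf (inf_le_left.trans inf_le_left) inf_le_right : N a ⊓ N b ⊓ N d ≤ N a ⊓ N d) (v (a, d)) - 1
  have hg' : ∀ (p : ι × ι) (W : X.Opens) (h : W ≤ N p.1 ⊓ N p.2), ro h (g p) * ro h (v p) = 1 :=
    fun p W h => by rw [← ro_mul, hgv]; exact map_one _
  have hcker : ∀ a b d, i.app _ (c a b d) = 0 := fun a b d => by
    simp only [c]
    rw [map_sub, map_mul, map_mul, map_one, app_ro, app_ro, hgab, hgab,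
      hutr a b d _ (inf_le_left.trans inf_le_left) (inf_le_left.trans inf_le_right) inf_le_right,
      ← hgab a d, ← app_ro (le_inf (inf_le_left.trans inf_le_left) inf_le_right), ← map_mul, hg' (a, d) _ (le_inf (inf_le_left.trans inf_le_left) inf_le_right), map_one, sub_self]
  obtain ⟨β, hβ, hβc⟩ := hcob c hcker fun a b d e W ha hb hd he' => by
    have hz : ∀ {x y z : ι} (h : W ≤ N x ⊓ N y ⊓ N z), i.app W (ro h (c x y z)) = 0 :=
      fun h => app_ro_eq_zero h (hcker _ _ _)
    have h1 := hsq W _ _ (hz (le_inf (le_inf hb hd) he')) (hz (le_inf (le_inf ha hb) he'))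
    have h2 := hsq W _ _ (hz (le_inf (le_inf ha hd) he')) (hz (le_inf (le_inf ha hb) hd))
    simp only [c, map_sub, map_one, ro_mul, ro_ro] at h1 h2 ⊢
    linear_combination
      ((ro (le_inf hb hd) (g (b, d)) * ro (le_inf hd he') (g (d, e)) * ro (le_inf ha hb) (g (a, b)) *
          ro (le_inf ha he') (v (a, e))) * hg' (b, e) W (le_inf hb he')) -
      ((ro (le_inf hb hd) (g (b, d)) * ro (le_inf hd he') (g (d, e)) * ro (le_inf ha hb) (g (a, b)) *
          ro (le_inf ha he') (v (a, e))) * hg' (a, d) W (le_inf ha hd)) - h1 + h2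
  let g₁ : ∀ a b, Γ(X, N a ⊓ N b) := fun a b => g (a, b) * (1 - β a b)
  have hg₁i : ∀ a b, i.app _ (g₁ a b) = u (a, b) := fun a b => by
    simp only [g₁]
    rw [map_mul, map_sub, map_one, hβ, sub_zero, mul_one, hgab]
  have hg₁c : ∀ a b d (W : X.Opens) (ha : W ≤ N a) (hb : W ≤ N b) (hd : W ≤ N d),
      ro (le_inf ha hb) (g₁ a b) * ro (le_inf hb hd) (g₁ b d) = ro (le_inf ha hd) (g₁ a d) := by
    intro a b d W ha hb hd
    have h1 := hβc a b d W ha hb hd
    have hk : i.app W (ro (le_inf (le_inf ha hb) hd) (c a b d)) = 0 := app_ro_eq_zero _ (hcker a b d)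
    have k1 : ∀ {x y : ι} (h : W ≤ N x ⊓ N y), i.app W (ro h (β x y)) = 0 := fun h => app_ro_eq_zero h (hβ _ _)
    have p1 := hsq W _ _ hk (k1 (le_inf ha hb))
    have p2 := hsq W _ _ hk (k1 (le_inf hb hd))
    have p3 := hsq W _ _ (k1 (le_inf ha hb)) (k1 (le_inf hb hd))
    simp only [g₁, c, map_sub, map_one, ro_mul, ro_ro] at h1 p1 p2 p3 ⊢
    linear_combination (ro (le_inf ha hd) (g (a, d))) * h1 -
      (ro (le_inf ha hd) (g (a, d))) * p1 - (ro (le_inf ha hd) (g (a, d))) * p2 +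
      (ro (le_inf ha hd) (g (a, d))) * p3 -
      ro (le_inf ha hb) (g (a, b)) * ro (le_inf hb hd) (g (b, d)) *
        (1 - ro (le_inf ha hb) (β a b)) * (1 - ro (le_inf hb hd) (β b d)) * hg' (a, d) W (le_inf ha hd) +
      (ro (le_inf ha hd) (g (a, d))) * (ro (le_inf ha hb) (g (a, b)) * ro (le_inf hb hd) (g (b, d)) *
        ro (le_inf ha hd) (v (a, d)) - 1) * p3
  let C : Cocycle X :=
    { ι := ι
      N := N
      g := g₁
      one := fun a => by
        have h := hg₁c a a a (N a ⊓ N a) inf_le_left inf_le_left inf_le_left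
        rw [ro_self] at h
        have hunit : IsUnit (g₁ a a) := by
          refine IsUnit.of_mul_eq_one (v (a, a) * (1 + β a a)) ?_
          have h0 := hsq _ _ _ (hβ a a) (hβ a a)
          simp only [g₁]
          linear_combination (1 - β a a) * (1 + β a a) * hgv (a, a) - h0
        exact hunit.mul_left_cancel (h.trans (mul_one _).symm)
      comp := fun a b d =>
        hg₁c a b d _ (inf_le_left.trans inf_le_left) (inf_le_left.trans inf_le_right) inf_le_right }
  refine ⟨glueMod C, isInvertible_glueMod C hcov, ?_⟩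
  refine nonempty_iso_of_gens (fun a => i ⁻¹ᵁ N a) (e := fun a => pull i (glueMod C) (N a) (gen C a)) (e' := e)
    (fun a => Groth.L18.Frame.IsFrame.pullback i (glueMod C) (isGen_gen C a)) he
    (fun x => (hcov (i x))) fun a b W ha hb c' hc => ?_
  have h1 := congrArg (pull i (glueMod C) (N a ⊓ N b)) (gen_trans C a b)
  rw [pull_smul] at h1
  have h2 := congrArg (rs ((Scheme.Modules.pullback i).obj (glueMod C))
    (le_inf ha hb : W ≤ i ⁻¹ᵁ (N a ⊓ N b))) h1
  have e1 : pull i (glueMod C) (N a ⊓ N b) (Groth.L21.Extend.rs (glueMod C) inf_le_right (gen C b)) =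
      rs _ (i.preimage_mono inf_le_right) (pull i (glueMod C) (N b) (gen C b)) := (pull_rs i _ _ _).symm
  have e2 : pull i (glueMod C) (N a ⊓ N b) (Groth.L21.Extend.rs (glueMod C) inf_le_left (gen C a)) =
      rs _ (i.preimage_mono inf_le_left) (pull i (glueMod C) (N a) (gen C a)) := (pull_rs i _ _ _).symm
  rw [e1, e2, rs_rs, rs_smul, rs_rs] at h2
  have h3 : c' = ro (le_inf ha hb : W ≤ i ⁻¹ᵁ (N a ⊓ N b)) (u (a, b)) := by
    refine (Groth.L18.Frame.IsFrame.pullback i (glueMod C) (isGen_gen C a)).inj ha ?_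
    rw [← hg₁i a b]
    exact hc.trans h2
  have h4 := congrArg (rs L (le_inf ha hb : W ≤ i ⁻¹ᵁ (N a ⊓ N b))) (hu (a, b))
  rw [rs_smul, rs_rs, rs_rs] at h4
  rw [h3]
  exact h4

theorem isFrame_iso {Y : Scheme.{u}} {M M' : Y.Modules} (φ : M ≅ M') {W : Y.Opens} {e : Γ(M, W)}
    (he : IsFrame M W e) : IsFrame M' W (φ.hom.app W e) := fun V h => by
  have hinj : ∀ (V : Y.Opens) (s : Γ(M, V)), φ.inv.app V (φ.hom.app V s) = s := fun V s => by
    show (φ.hom ≫ φ.inv).app V s = _
    rw [φ.hom_inv_id]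
    rfl
  have hinj' : ∀ (V : Y.Opens) (s : Γ(M', V)), φ.hom.app V (φ.inv.app V s) = s := fun V s => by
    show (φ.inv ≫ φ.hom).app V s = _
    rw [φ.inv_hom_id]
    rfl
  have key : ∀ a : Γ(Y, V), a • rs M' h (φ.hom.app W e) = φ.hom.app V (a • rs M h e) := fun a => by
    rw [Scheme.Modules.Hom.app_smul]
    exact congrArg (a • ·) (Groth.L21.Extend.rs_app φ.hom h e).symm
  refine ⟨fun a b hab => (he V h).1 ?_, fun t => ?_⟩
  · have h' : a • rs M' h (φ.hom.app W e) = b • rs M' h (φ.hom.app W e) := hab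
    rw [key, key] at h'
    have := congrArg (φ.inv.app V) h'
    rwa [hinj, hinj] at this
  · obtain ⟨a, ha⟩ := (he V h).2 (φ.inv.app V t)
    refine ⟨a, ?_⟩
    show a • rs M' h (φ.hom.app W e) = t
    rw [key, show a • rs M h e = φ.inv.app V t from ha, hinj']

include hsq in
/-- Uniqueness of lifts of invertible modules. -/
theorem exists_iso (hN₁ : ∀ a, IsAffineOpen (N a)) (hcov : ∀ x : X, ∃ a, x ∈ N a) (hcob : Cob₁ i N)
    (L L' : X.Modules) (e : ∀ a, Γ(L, N a)) (he : ∀ a, IsFrame L (N a) (e a))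
    (e' : ∀ a, Γ(L', N a)) (he' : ∀ a, IsFrame L' (N a) (e' a))
    (φ : (Scheme.Modules.pullback i).obj L ≅ (Scheme.Modules.pullback i).obj L') :
    Nonempty (L ≅ L') := by
  have hp : ∀ a, IsFrame ((Scheme.Modules.pullback i).obj L') (i ⁻¹ᵁ N a) (pull i L' (N a) (e' a)) :=
    fun a => Groth.L18.Frame.IsFrame.pullback i L' (he' a)
  have hq : ∀ a, IsFrame ((Scheme.Modules.pullback i).obj L') (i ⁻¹ᵁ N a)
      (φ.hom.app _ (pull i L (N a) (e a))) :=
    fun a => isFrame_iso φ (Groth.L18.Frame.IsFrame.pullback i L (he a))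
  choose w hw using fun a => (hp a).exists_coeff le_rfl (φ.hom.app _ (pull i L (N a) (e a)))
  simp only [rs_self] at hw
  choose t s hts ht using fun a =>
    exists_unit_lift hsq (hN₁ a) (Groth.L18.Frame.isUnit_of_isFrame (hp a) (by rw [hw]; exact hq a))
  let f : ∀ a, Γ(L', N a) := fun a => t a • e' a
  have hf : ∀ a, IsFrame L' (N a) (f a) := fun a => (he' a).smul_unit (IsUnit.of_mul_eq_one _ (hts a))
  have hfq : ∀ a, pull i L' (N a) (f a) = φ.hom.app _ (pull i L (N a) (e a)) := fun a => by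
    rw [pull_smul, ← hw, ← ht]
  choose g hg using fun a b => (he a).exists_coeff (inf_le_left : N a ⊓ N b ≤ N a)
    (rs L (inf_le_right : N a ⊓ N b ≤ N b) (e b))
  choose g' hg' using fun a b => (hf a).exists_coeff (inf_le_left : N a ⊓ N b ≤ N a)
    (rs L' (inf_le_right : N a ⊓ N b ≤ N b) (f b))
  have hgg : ∀ a b, i.app _ (g a b) = i.app _ (g' a b) := fun a b => by
    refine (hq a).inj (i.preimage_mono inf_le_left) ?_
    have h1 := congrArg (φ.hom.app _) (congrArg (pull i L (N a ⊓ N b)) (hg a b))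
    have h2 := congrArg (pull i L' (N a ⊓ N b)) (hg' a b)
    rw [pull_smul, Scheme.Modules.Hom.app_smul, ← pull_rs, ← pull_rs] at h1
    rw [pull_smul, ← pull_rs, ← pull_rs, hfq, hfq] at h2
    have e1 : ∀ {U V : X₀.Opens} (h : V ≤ U) (x : Γ((Scheme.Modules.pullback i).obj L, U)),
        φ.hom.app V (rs _ h x) = rs _ h (φ.hom.app U x) :=
      fun h x => Groth.L21.Extend.rs_app φ.hom h x
    rw [e1, e1] at h1
    exact h1.trans h2.symm
  have hu : ∀ a b, IsUnit (g a b) := fun a b =>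
    Groth.L18.Frame.isUnit_of_isFrame ((he a).mono _) (by rw [hg]; exact (he b).mono _)
  choose v hv using fun a b => (hu a b).exists_right_inv
  let δ : ∀ a b, Γ(X, N a ⊓ N b) := fun a b => g' a b * v a b - 1
  have hδ : ∀ a b, i.app _ (δ a b) = 0 := fun a b => by
    simp only [δ]
    rw [map_sub, map_mul, ← hgg, ← map_mul, hv, map_one, sub_self]
  have htr : ∀ {M : X.Modules} {m : ∀ a, Γ(M, N a)} (hm : ∀ a, IsFrame M (N a) (m a))
      {G : ∀ a b, Γ(X, N a ⊓ N b)}
      (hG : ∀ a b, G a b • rs M (inf_le_left : N a ⊓ N b ≤ N a) (m a) = rs M inf_le_right (m b))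
      (a b d : ι) (W : X.Opens) (ha : W ≤ N a) (hb : W ≤ N b) (hd : W ≤ N d),
      ro (le_inf ha hb) (G a b) * ro (le_inf hb hd) (G b d) = ro (le_inf ha hd) (G a d) := by
    intro M m hm G hG a b d W ha hb hd
    refine (hm a).inj ha ?_
    have e1 := congrArg (rs M (le_inf ha hb)) (hG a b)
    have e2 := congrArg (rs M (le_inf hb hd)) (hG b d)
    have e3 := congrArg (rs M (le_inf ha hd)) (hG a d)
    simp only [rs_smul, rs_rs] at e1 e2 e3
    rw [mul_comm, mul_smul, e1, e2, e3]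
  obtain ⟨β, hβ, hβc⟩ := hcob δ hδ fun a b d W ha hb hd => by
    have h1 := htr he hg a b d W ha hb hd
    have h2 := htr hf hg' a b d W ha hb hd
    have k : ∀ {x y : ι} (h : W ≤ N x ⊓ N y), i.app W (ro h (δ x y)) = 0 :=
      fun h => app_ro_eq_zero h (hδ _ _)
    have p := hsq W _ _ (k (le_inf ha hb)) (k (le_inf hb hd))
    have hvv : ∀ {x y : ι} (h : W ≤ N x ⊓ N y), ro h (g x y) * ro h (v x y) = 1 :=
      fun h => by rw [← ro_mul, hv]; exact map_one _
    simp only [δ, map_sub, map_one, ro_mul] at p ⊢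
    linear_combination -p + ro (le_inf ha hb) (v a b) * ro (le_inf hb hd) (v b d) * h2 -
      ro (le_inf ha hb) (v a b) * ro (le_inf hb hd) (v b d) * ro (le_inf ha hd) (g' a d) *
        hvv (le_inf ha hd) +
      ro (le_inf ha hd) (v a d) * ro (le_inf ha hd) (g' a d) * hvv (le_inf ha hb) +
      ro (le_inf ha hd) (v a d) * ro (le_inf ha hd) (g' a d) * ro (le_inf ha hb) (g a b) *
        ro (le_inf ha hb) (v a b) * hvv (le_inf hb hd) -
      ro (le_inf ha hd) (v a d) * ro (le_inf ha hd) (g' a d) * ro (le_inf ha hb) (v a b) *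
        ro (le_inf hb hd) (v b d) * h1
  refine nonempty_iso_of_gens N (e := e) (e' := fun a => (1 - β a) • f a) he (fun a => (hf a).smul_unit ?_)
    hcov fun a b W ha hb c hc => ?_
  · exact IsUnit.of_mul_eq_one (1 + β a) (by linear_combination -hsq _ _ _ (hβ a) (hβ a))
  have hcg : c = ro (le_inf ha hb) (g a b) := by
    refine (he a).inj ha ?_
    have h := congrArg (rs L (le_inf ha hb)) (hg a b)
    simp only [rs_smul, rs_rs] at h
    exact hc.trans h.symm
  have h := congrArg (rs L' (le_inf ha hb)) (hg' a b)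
  simp only [rs_smul, rs_rs] at h
  show c • rs L' ha ((1 - β a) • f a) = rs L' hb ((1 - β b) • f b)
  simp only [rs_smul]
  rw [← h, hcg, smul_smul, smul_smul]
  congr 1
  have hk := hβc a b W ha hb
  have k1 : i.app W (ro (le_inf ha hb) (δ a b)) = 0 := app_ro_eq_zero _ (hδ a b)
  have p := hsq W _ _ k1 (app_ro_eq_zero hb (hβ b))
  have hvv : ro (le_inf ha hb) (g a b) * ro (le_inf ha hb) (v a b) = 1 := by
    rw [← ro_mul, hv]; exact map_one _
  simp only [δ, map_sub, map_one, ro_mul] at hk p ⊢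
  linear_combination -ro (le_inf ha hb) (g a b) * hk + ro (le_inf ha hb) (g a b) * p +
    (ro (le_inf ha hb) (g' a b) * (1 - ro hb (β b))) * hvv

end Groth.L12.LineLift
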