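import Groth.Agent.L12.LineLift.Cech2
import Groth.Agent.L12.LineLift.Obstruction
import Groth.Agent.L12.LineLift.Kernel
import Groth.Agent.L20.ThickAffine

/-! Square-zero thickenings whose kernel is free over the closed fibre. -/

set_option autoImplicit false
set_option linter.style.haveILetI false
set_option linter.unusedSectionVars false
set_option backward.isDefEq.respectTransparency false
set_option backward.isDefEq.respectTransparency.types false

universe u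

open CategoryTheory CategoryTheory.Limits AlgebraicGeometry TopologicalSpace Opposite

noncomputable section

namespace Groth.L12.LineLift

open Groth.L18.Frame (rs ro rs_rs rs_self ro_ro ro_self ro_mul IsFrame)

/-- The kernel of `i` is free on `w` over the closed subscheme `g₀`. -/
structure Small {X₀ X' X : Scheme.{u}} (i : X' ⟶ X) (g₀ : X₀ ⟶ X) where
  /-- The rank. -/
  r : ℕ
  /-- The basis. -/
  w : Fin r → Γ(X, ⊤)
  i_w : ∀ l, i.app ⊤ (w l) = 0
  g_w : ∀ l, g₀.app ⊤ (w l) = 0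
  gen : ∀ V : X.Opens, IsAffineOpen V → ∀ a : Γ(X, V), i.app V a = 0 →
    ∃ s : Fin r → Γ(X, V), a = ∑ l, ro le_top (w l) * s l
  uniq : ∀ V : X.Opens, IsAffineOpen V → ∀ s : Fin r → Γ(X, V),
    ∑ l, ro le_top (w l) * s l = 0 → ∀ l, g₀.app V (s l) = 0
  kill : ∀ V : X.Opens, IsAffineOpen V → ∀ s : Γ(X, V), g₀.app V s = 0 → ∀ l, ro le_top (w l) * s = 0

theorem app_ro' {Y X : Scheme.{u}} (g : Y ⟶ X) {U V : X.Opens} (h : V ≤ U) (a : Γ(X, U)) :
    g.app V (ro h a) = ro (g.preimage_mono h) (g.app U a) :=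
  congr($(g.naturality (homOfLE h).op) a)

variable {X₀ X' X : Scheme.{u}} {i : X' ⟶ X} {g₀ : X₀ ⟶ X} (S : Small i g₀)

include S in
theorem Small.sqZero : SqZero i := fun V a b ha hb => by
  refine Groth.L20.ThickAffine.sq_zero_of_local i (fun U x hx => ?_) V a b ha hb
  obtain ⟨W, hW, hxW, hWU⟩ := exists_isAffineOpen_mem_and_subset (x := x) (U := U) hx
  refine ⟨W, hxW, hWU, fun a b ha hb => ?_⟩
  obtain ⟨s, rfl⟩ := S.gen W hW a ha
  obtain ⟨t, rfl⟩ := S.gen W hW b hb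
  rw [Finset.sum_mul_sum]
  refine Finset.sum_eq_zero fun l _ => Finset.sum_eq_zero fun l' _ => ?_
  have h := S.kill W hW (ro le_top (S.w l')) (by rw [app_ro', S.g_w]; exact map_zero _) l
  linear_combination (s l * t l') * h

theorem Small.i_term (V : X.Opens) (l : Fin S.r) (b : Γ(X, V)) : i.app V (ro le_top (S.w l) * b) = 0 := by
  rw [map_mul, app_ro', S.i_w]
  exact (congrArg (· * i.app V b) (map_zero _)).trans (zero_mul _)

theorem ro_sum_w {V W : X.Opens} (h : W ≤ V) (s : Fin S.r → Γ(X, V)) :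
    ro h (∑ l, ro le_top (S.w l) * s l) = ∑ l, ro le_top (S.w l) * ro h (s l) := by
  refine (map_sum (X.presheaf.map (homOfLE h).op).hom _ _).trans (Finset.sum_congr rfl fun l _ => ?_)
  refine (map_mul (X.presheaf.map (homOfLE h).op).hom _ _).trans ?_
  rw [← ro_ro le_top h]

variable [IsClosedImmersion g₀] {ι : Type u} (N : ι → X.Opens)
  (hN : ∀ (n : ℕ) (a : Fin (n + 1) → ι), IsAffineOpen (⨅ k, N (a k))) (hcov : ⨆ a, N a = ⊤)

include hN hcov in
theorem isAffineOpen_preimage_tuples :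
    (∀ (n : ℕ) (a : Fin (n + 1) → ι), IsAffineOpen (⨅ k, g₀ ⁻¹ᵁ N (a k))) ∧ ⨆ a, g₀ ⁻¹ᵁ N a = ⊤ := by
  refine ⟨fun n a => Groth.L17.BC.isAffineOpen_iInf_preimage g₀ N hN n a, ?_⟩
  · rw [← Scheme.Hom.preimage_iSup, hcov, Scheme.Hom.preimage_top]

theorem aff₁ (hN : ∀ (n : ℕ) (a : Fin (n + 1) → ι), IsAffineOpen (⨅ k, N (a k))) (a : ι) :
    IsAffineOpen (N a) := by
  simpa using hN 0 fun _ => a

theorem aff₂ (hN : ∀ (n : ℕ) (a : Fin (n + 1) → ι), IsAffineOpen (⨅ k, N (a k))) (a b : ι) :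
    IsAffineOpen (N a ⊓ N b) := by
  have h := hN 1 ![a, b]
  rwa [show (⨅ k, N (![a, b] k)) = N a ⊓ N b from le_antisymm
    (le_inf (iInf_le (fun k => N (![a, b] k)) 0) (iInf_le (fun k => N (![a, b] k)) 1))
    (le_iInf fun k => by fin_cases k <;> simp)] at h

theorem aff₃ (hN : ∀ (n : ℕ) (a : Fin (n + 1) → ι), IsAffineOpen (⨅ k, N (a k))) (a b d : ι) :
    IsAffineOpen (N a ⊓ N b ⊓ N d) := by
  have h := hN 2 ![a, b, d]
  rwa [show (⨅ k, N (![a, b, d] k)) = N a ⊓ N b ⊓ N d from le_antisymm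
    (le_inf (le_inf (iInf_le (fun k => N (![a, b, d] k)) 0) (iInf_le (fun k => N (![a, b, d] k)) 1))
      (iInf_le (fun k => N (![a, b, d] k)) 2))
    (le_iInf fun k => by fin_cases k; exacts [inf_le_left.trans inf_le_left, inf_le_left.trans inf_le_right, inf_le_right])] at h

theorem aff₄ (hN : ∀ (n : ℕ) (a : Fin (n + 1) → ι), IsAffineOpen (⨅ k, N (a k))) (a b d e : ι) :
    IsAffineOpen (N a ⊓ N b ⊓ N d ⊓ N e) := by
  have h := hN 3 ![a, b, d, e]
  rwa [show (⨅ k, N (![a, b, d, e] k)) = N a ⊓ N b ⊓ N d ⊓ N e from le_antisymm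
    (le_inf (le_inf (le_inf (iInf_le (fun k => N (![a, b, d, e] k)) 0) (iInf_le (fun k => N (![a, b, d, e] k)) 1))
      (iInf_le (fun k => N (![a, b, d, e] k)) 2)) (iInf_le (fun k => N (![a, b, d, e] k)) 3))
    (le_iInf fun k => by
      fin_cases k
      exacts [(inf_le_left.trans inf_le_left).trans inf_le_left, (inf_le_left.trans inf_le_left).trans inf_le_right,
        inf_le_left.trans inf_le_right, inf_le_right])] at h

include S hN hcov in
theorem Small.cob₂ (h2 : Subsingleton (Coh.HH X₀ (Coh.structureModule X₀) 2)) : Cob₂ i N := by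
  intro c hc hcoc
  haveI : Coh.IsQCoh (Coh.structureModule X₀) := Groth.L21.Extend.isQCoh_of_isInvertible
    (Groth.L18.Ample.isInvertible_structureModule _)
  obtain ⟨hU, hUc⟩ := isAffineOpen_preimage_tuples (g₀ := g₀) N hN hcov
  choose s hs using fun a b d => S.gen _ (aff₃ N hN a b d) (c a b d) (hc a b d)
  choose β hβ using fun l : Fin S.r => exists_coboundary₂ (fun a => g₀ ⁻¹ᵁ N a) (Coh.structureModule X₀) hU hUc h2
    (fun a b d => (g₀.app (N a ⊓ N b ⊓ N d) (s a b d l) : Γ(X₀, g₀ ⁻¹ᵁ (N a ⊓ N b ⊓ N d))))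
    (fun a b d e W ha hb hd he => by

      let Q := N a ⊓ N b ⊓ N d ⊓ N e
      have qa : Q ≤ N a := inf_le_left.trans (inf_le_left.trans inf_le_left)
      have qb : Q ≤ N b := inf_le_left.trans (inf_le_left.trans inf_le_right)
      have qd : Q ≤ N d := inf_le_left.trans inf_le_right
      have qe : Q ≤ N e := inf_le_right
      have h0 := hcoc a b d e Q qa qb qd qe
      simp only [hs, ro_sum_w] at h0
      have hsum : ∑ l, ro le_top (S.w l) * (ro (le_inf (le_inf qb qd) qe) (s b d e l) -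
          ro (le_inf (le_inf qa qd) qe) (s a d e l) + ro (le_inf (le_inf qa qb) qe) (s a b e l) -
          ro (le_inf (le_inf qa qb) qd) (s a b d l)) = 0 := by
        simp only [mul_sub, mul_add, Finset.sum_sub_distrib, Finset.sum_add_distrib]
        exact h0
      have h1 := S.uniq Q (aff₄ N hN a b d e) _ hsum l
      rw [map_sub, map_add, map_sub, app_ro', app_ro', app_ro', app_ro'] at h1
      have h2 := congrArg (ro (le_inf (le_inf (le_inf ha hb) hd) he : W ≤ g₀ ⁻¹ᵁ Q)) h1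
      simp only [map_sub, map_add, map_zero, ro_ro] at h2
      exact h2)
  choose b hb using fun (l : Fin S.r) (x y : ι) => g₀.app_surjective _ (aff₂ N hN x y) (β l x y)
  refine ⟨fun x y => ∑ l, ro le_top (S.w l) * b l x y, fun x y => ?_, fun x y z W hx hy hz => ?_⟩
  · rw [map_sum]
    exact Finset.sum_eq_zero fun l _ => S.i_term _ l _
  · let T := N x ⊓ N y ⊓ N z
    have tx : T ≤ N x := inf_le_left.trans inf_le_left
    have ty : T ≤ N y := inf_le_left.trans inf_le_right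
    have tz : T ≤ N z := inf_le_right
    have key : ∀ l, ro le_top (S.w l) * s x y z l = ro le_top (S.w l) *
        (ro (le_inf ty tz) (b l y z) - ro (le_inf tx tz) (b l x z) + ro (le_inf tx ty) (b l x y)) := fun l => by
      rw [← sub_eq_zero, ← mul_sub]
      refine S.kill T (aff₃ N hN x y z) _ ?_ l
      rw [map_sub, map_add, map_sub, app_ro', app_ro', app_ro', hb, hb, hb]
      have h := hβ l x y z (g₀ ⁻¹ᵁ T) (g₀.preimage_mono tx) (g₀.preimage_mono ty) (g₀.preimage_mono tz)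
      rw [sub_eq_zero]
      refine Eq.trans ?_ h
      exact (ro_self _ _).symm
    have hT : c x y z = ro (le_inf ty tz) (∑ l, ro le_top (S.w l) * b l y z) -
        ro (le_inf tx tz) (∑ l, ro le_top (S.w l) * b l x z) +
        ro (le_inf tx ty) (∑ l, ro le_top (S.w l) * b l x y) := by
      simp only [hs, ro_sum_w, key]
      simp only [mul_sub, mul_add, Finset.sum_sub_distrib, Finset.sum_add_distrib]
    have hW := congrArg (ro (le_inf (le_inf hx hy) hz)) hT
    simp only [map_sub, map_add, ro_ro] at hW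
    exact hW

include S in
/-- The components of a killed section, on any open. -/
theorem Small.exists_comp (V : X.Opens) (a : Γ(X, V)) (ha : i.app V a = 0) :
    ∃ σ : Fin S.r → Γ(X₀, g₀ ⁻¹ᵁ V), ∀ (W : X.Opens), IsAffineOpen W → ∀ (h : W ≤ V)
      (s : Fin S.r → Γ(X, W)), ro h a = ∑ l, ro le_top (S.w l) * s l →
        ∀ l, g₀.app W (s l) = ro (g₀.preimage_mono h) (σ l) := by
  choose B hB hyB hBV using fun y : V => exists_isAffineOpen_mem_and_subset (x := y.1) (U := V) y.2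
  have hi0 : ∀ {W : X.Opens} (h : W ≤ V), i.app W (ro h a) = 0 := fun h => by
    rw [app_ro', ha]; exact map_zero _
  choose t ht using fun y : V => S.gen _ (hB y) (ro (hBV y) a) (hi0 (hBV y))
  have agree : ∀ (y : V) (W : X.Opens), IsAffineOpen W → ∀ (h : W ≤ V) (s : Fin S.r → Γ(X, W)),
      ro h a = ∑ l, ro le_top (S.w l) * s l → ∀ (O : X₀.Opens) (h₁ : O ≤ g₀ ⁻¹ᵁ W) (h₂ : O ≤ g₀ ⁻¹ᵁ B y) (l),
        ro h₁ (g₀.app W (s l)) = ro h₂ (g₀.app (B y) (t y l)) := by
    intro y W hW h s hs O h₁ h₂ l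
    refine Groth.L21.Extend.eq_of_locally (Coh.structureModule X₀) _ _ fun z hz => ?_
    obtain ⟨A, hA, hzA, hAW⟩ := exists_isAffineOpen_mem_and_subset (x := g₀ z) (U := W ⊓ B y) ⟨h₁ hz, h₂ hz⟩
    have a1 : A ≤ W := le_trans hAW inf_le_left
    have a2 : A ≤ B y := le_trans hAW inf_le_right
    refine ⟨O ⊓ g₀ ⁻¹ᵁ A, inf_le_left, ⟨hz, hzA⟩, ?_⟩
    show ro _ (ro h₁ (g₀.app W (s l))) = ro _ (ro h₂ (g₀.app (B y) (t y l)))
    have e1 : ∑ l, ro le_top (S.w l) * ro a1 (s l) = ∑ l, ro le_top (S.w l) * ro a2 (t y l) := by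
      rw [← ro_sum_w, ← ro_sum_w, ← hs, ← ht y, ro_ro, ro_ro]
    have h0 : ∑ l, ro le_top (S.w l) * (ro a1 (s l) - ro a2 (t y l)) = 0 := by
      simp only [mul_sub, Finset.sum_sub_distrib]
      rw [e1, sub_self]
    have e2 := S.uniq A hA _ h0 l
    rw [map_sub, sub_eq_zero, app_ro', app_ro'] at e2
    have e3 := congrArg (ro (inf_le_right : O ⊓ g₀ ⁻¹ᵁ A ≤ g₀ ⁻¹ᵁ A)) e2
    simp only [ro_ro] at e3 ⊢
    exact e3
  choose σ hσ using fun l : Fin S.r => Groth.L21.Extend.exists_glue (Coh.structureModule X₀) (fun y : V => g₀ ⁻¹ᵁ B y)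
    (g₀ ⁻¹ᵁ V) (fun y => g₀.preimage_mono (hBV y)) (fun z hz => ⟨⟨g₀ z, hz⟩, hyB _⟩)
    (fun y => g₀.app (B y) (t y l))
    (fun y y' => agree y' (B y) (hB y) (hBV y) (t y) (ht y) _ inf_le_left inf_le_right l)
  refine ⟨σ, fun W hW h s hs l => Groth.L21.Extend.eq_of_locally (Coh.structureModule X₀) _ _ fun z hz => ?_⟩
  let y : V := ⟨g₀ z, h hz⟩
  refine ⟨g₀ ⁻¹ᵁ W ⊓ g₀ ⁻¹ᵁ B y, inf_le_left, ⟨hz, hyB y⟩, ?_⟩
  show ro _ (g₀.app W (s l)) = ro _ (ro (g₀.preimage_mono h) (σ l))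
  have e := congrArg (ro (inf_le_right : g₀ ⁻¹ᵁ W ⊓ g₀ ⁻¹ᵁ B y ≤ g₀ ⁻¹ᵁ B y))
    (show ro (g₀.preimage_mono (hBV y)) (σ l) = g₀.app (B y) (t y l) from hσ l y)
  rw [ro_ro] at e
  rw [agree y W hW h s hs _ inf_le_left inf_le_right l, ← e, ro_ro]

omit [IsClosedImmersion g₀] in
include S in
/-- One-cocycles of the kernel are coboundaries, for any affine cover. -/
theorem Small.cob₁ [IsClosedImmersion g₀] {κ : Type u} (M : κ → X.Opens) (hM : ∀ a, IsAffineOpen (M a))
    (hMc : ⨆ a, M a = ⊤) (h1 : Subsingleton (Coh.HH X₀ (Coh.structureModule X₀) 1)) : Cob₁ i M := by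
  intro c hc hcoc
  choose σ hσ using fun a b => S.exists_comp (M a ⊓ M b) (c a b) (hc a b)
  have hUc : ⨆ a, g₀ ⁻¹ᵁ M a = ⊤ := by rw [← Scheme.Hom.preimage_iSup, hMc, Scheme.Hom.preimage_top]
  choose β hβ using fun l : Fin S.r => exists_coboundary₁ (fun a => g₀ ⁻¹ᵁ M a) (Coh.structureModule X₀) hUc h1
    (fun a b => (σ a b l : Γ(X₀, g₀ ⁻¹ᵁ (M a ⊓ M b))))
    (fun a b d W ha hb hd => Groth.L21.Extend.eq_of_locally (Coh.structureModule X₀) _ _ fun z hz => by
      obtain ⟨A, hA, hzA, hAQ⟩ := exists_isAffineOpen_mem_and_subset (x := g₀ z) (U := M a ⊓ M b ⊓ M d)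
        ⟨⟨ha hz, hb hz⟩, hd hz⟩
      have qa : A ≤ M a := le_trans hAQ (inf_le_left.trans inf_le_left)
      have qb : A ≤ M b := le_trans hAQ (inf_le_left.trans inf_le_right)
      have qd : A ≤ M d := le_trans hAQ inf_le_right
      have hi0 : ∀ {x y : κ} (h : A ≤ M x ⊓ M y), i.app A (ro h (c x y)) = 0 := fun h => by
        rw [app_ro', hc]; exact map_zero _
      obtain ⟨s, hs⟩ := S.gen A hA _ (hi0 (le_inf qa qb))
      obtain ⟨t, ht⟩ := S.gen A hA _ (hi0 (le_inf qb qd))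
      obtain ⟨u, hu⟩ := S.gen A hA _ (hi0 (le_inf qa qd))
      have h0 := hcoc a b d A qa qb qd
      rw [hs, ht, hu] at h0
      have hsum : ∑ l, ro le_top (S.w l) * (t l - u l + s l) = 0 := by
        simp only [mul_sub, mul_add, Finset.sum_sub_distrib, Finset.sum_add_distrib]
        exact h0
      have h1 := S.uniq A hA _ hsum l
      rw [map_add, map_sub, hσ b d A hA _ t ht l, hσ a d A hA _ u hu l, hσ a b A hA _ s hs l] at h1
      refine ⟨W ⊓ g₀ ⁻¹ᵁ A, inf_le_left, ⟨hz, hzA⟩, ?_⟩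
      have h2 := congrArg (ro (inf_le_right : W ⊓ g₀ ⁻¹ᵁ A ≤ g₀ ⁻¹ᵁ A)) h1
      simp only [map_sub, map_add, map_zero, ro_ro] at h2
      show ro (inf_le_left : W ⊓ g₀ ⁻¹ᵁ A ≤ W)
        (((ro (le_inf hb hd : W ≤ g₀ ⁻¹ᵁ (M b ⊓ M d)) (σ b d l) : Γ(X₀, W)) -
          (ro (le_inf ha hd : W ≤ g₀ ⁻¹ᵁ (M a ⊓ M d)) (σ a d l) : Γ(X₀, W))) +
          (ro (le_inf ha hb : W ≤ g₀ ⁻¹ᵁ (M a ⊓ M b)) (σ a b l) : Γ(X₀, W))) = ro inf_le_left (0 : Γ(X₀, W))
      simp only [map_sub, map_add, map_zero, ro_ro]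
      exact h2)
  choose b hb using fun (l : Fin S.r) (x : κ) => g₀.app_surjective _ (hM x) (β l x)
  refine ⟨fun x => ∑ l, ro le_top (S.w l) * b l x, fun x => ?_, fun x y W hx hy => ?_⟩
  · rw [map_sum]
    exact Finset.sum_eq_zero fun l _ => S.i_term _ l _
  · refine Groth.L21.Extend.eq_of_locally (Coh.structureModule X) _ _ fun z hz => ?_
    obtain ⟨A, hA, hzA, hAW⟩ := exists_isAffineOpen_mem_and_subset (x := z) (U := W) hz
    have hAW' : A ≤ W := hAW
    refine ⟨A, hAW', hzA, ?_⟩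
    show ro hAW' (ro (le_inf hx hy) (c x y)) = ro hAW' (ro hy (∑ l, ro le_top (S.w l) * b l y) -
      ro hx (∑ l, ro le_top (S.w l) * b l x))
    have ax : A ≤ M x := hAW'.trans hx
    have ay : A ≤ M y := hAW'.trans hy
    obtain ⟨s, hs⟩ := S.gen A hA _ (show i.app A (ro (le_inf ax ay) (c x y)) = 0 by
      rw [app_ro', hc]; exact map_zero _)
    have key : ∀ l, ro le_top (S.w l) * s l = ro le_top (S.w l) * (ro ay (b l y) - ro ax (b l x)) := fun l => by
      rw [← sub_eq_zero, ← mul_sub]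
      refine S.kill A hA _ ?_ l
      rw [map_sub, map_sub, app_ro', app_ro', hb, hb, hσ x y A hA _ s hs l, sub_eq_zero]
      exact hβ l x y (g₀ ⁻¹ᵁ A) (g₀.preimage_mono ax) (g₀.preimage_mono ay)
    simp only [map_sub, ro_ro]
    rw [hs, ro_sum_w, ro_sum_w]
    simp only [key, mul_sub, Finset.sum_sub_distrib]

end Groth.L12.LineLift
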